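import Cfsg.Agent.Chevalley.WeylChecks

/-!
Finite checks behind the classification of weakly closed unipotent subgroups: how a positive root is
reached from a lower one, and which pairs of positive roots the torus separates.
-/

set_option autoImplicit false

namespace CfsgLib.ChevWeak

open Cfsg.Lie CfsgLib.Chevalley

variable (D : ChevalleyDatum)

/-- The commutator of the `i`-th fundamental root and `q` involves `r` once, with coefficient
`±1`, and only roots whose `i`-th coroot coefficient is non-zero. -/
def commOK (r i q : ℕ) : Bool :=
  (q != D.simple i) &&
  (((D.commTerms (D.simple i) q).filter fun c => c.1 == r).map fun c => c.2.1.natAbs) == [1] &&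
  ((D.commTerms (D.simple i) q).all fun c =>
    decide (half D ≤ c.1) && decide (c.1 < D.nroots) && (coT D c.1 i != 0))

/-- `r` is reached from a lower positive root by the `i`-th reflection, only the `i`-th coroot
coefficient changing, and by a commutator with the `i`-th fundamental root. -/
def stepOK (r i : ℕ) : Bool :=
  let r' := reflT D i r
  decide (half D ≤ r') && decide (r' < r) && (coT D r i != 0) &&
  ((List.range D.rank).all fun k => (k == i) || (coT D r' k == coT D r k)) &&
  (commOK D r i r' || (List.range' (half D) (r - half D)).any (commOK D r i))

/-- Every positive root is fundamental or reached by a good step. -/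
def chkStep : Bool :=
  (List.range' (half D) (D.nroots - half D)).all fun r =>
    ((List.range D.rank).any fun i => D.simple i == r) || ((List.range D.rank).any (stepOK D r))

/-- The column of Cartan integers divided by its content. -/
def primCol (r : ℕ) : List ℤ :=
  let u := (wtTrie D).get r
  u.map fun a => a / ((u.map Int.natAbs).foldr Nat.gcd 0 : ℕ)

/-- The column divides out exactly. -/
def primOK (r : ℕ) : Bool :=
  let u := (wtTrie D).get r
  (List.range D.rank).all fun k =>
    ((u.map Int.natAbs).foldr Nat.gcd 0 : ℕ) * ((primCol D r).getD k 0) == u.getD k 0

/-- The greatest common divisor of the minors of the two columns. -/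
def sepGcd (r s : ℕ) : ℕ :=
  let u := primCol D r
  let v := (wtTrie D).get s
  ((List.range D.rank).flatMap fun k => (List.range D.rank).map fun l =>
    (v.getD k 0 * u.getD l 0 - v.getD l 0 * u.getD k 0).natAbs).foldr Nat.gcd 0

/-- All pairs of positive roots have minors with greatest common divisor `g` in `ok`, apart from
the pairs in `exc`. -/
def chkSep (ok : List ℕ) (exc : List (ℕ × ℕ)) : Bool :=
  (List.range' (half D) (D.nroots - half D)).all fun r => primOK D r &&
    (List.range' (r + 1) (D.nroots - (r + 1))).all fun s =>
      ok.elem (sepGcd D r s) || exc.elem (r, s)

/-- The commutator of `p` and `r` consists of root elements at increasing indices above `r`, with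
odd coefficients, and `p` commutes with the roots from `s` on. -/
def chkException (r s p : ℕ) : Bool :=
  decide (half D ≤ p) && decide (p < D.nroots) && (r != p) && decide (r < D.nroots) &&
  ((List.range' s (D.nroots - s)).all fun c => (c != p) && (D.commTerms p c).isEmpty) &&
  ((D.commTerms p r).all fun c =>
    decide (r < c.1) && decide (c.1 < D.nroots) && (c.2.1 % 2 != 0)) &&
  decide (((D.commTerms p r).map fun c => c.1).Pairwise (· < ·)) &&
  ((D.commTerms p r).any fun c => c.1 == s)

end CfsgLib.ChevWeak
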