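import Cfsg.Agent.ChevWeak.Checks
import Cfsg.Prelude.Def_ChevE7

/-! Kernel evaluation of the sep check on the tables of type E7. -/

set_option autoImplicit false

namespace CfsgLib.ChevWeak

open Cfsg.Lie

theorem chevE7_sep : chkSep chevE7 [1] [] = true := by decide +kernel

end CfsgLib.ChevWeak
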