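import Cfsg.Agent.ChevWeak.SepSplit
import Cfsg.Prelude.Def_ChevE8

/-! Kernel evaluation of part of the separation check for the largest tables. -/

set_option autoImplicit false

namespace CfsgLib.ChevWeak

open Cfsg.Lie

theorem chevE8_sepD : sepPart chevE8 [1] [] 180 60 = true := by decide +kernel

end CfsgLib.ChevWeak
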