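import Cfsg.Agent.ChevWeak.DataSepE8A
import Cfsg.Agent.ChevWeak.DataSepE8B
import Cfsg.Agent.ChevWeak.DataSepE8C
import Cfsg.Agent.ChevWeak.DataSepE8D

/-! The separation check for the tables of type E8, from its four parts. -/

set_option autoImplicit false

namespace CfsgLib.ChevWeak

open Cfsg.Lie

theorem chevE8_sep : chkSep chevE8 [1] [] = true :=
  chkSep_of_part (a := 120) (n := 16 + 19 + 25 + 60) (by decide +kernel) (by decide +kernel)
    (sepPart_append (sepPart_append (sepPart_append chevE8_sepA chevE8_sepB) chevE8_sepC)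
      chevE8_sepD)

end CfsgLib.ChevWeak
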