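import Cfsg.Agent.ChevWeak.DataStepE6
import Cfsg.Agent.ChevWeak.DataSepE6
import Cfsg.Agent.ChevWeak.DataStepE7
import Cfsg.Agent.ChevWeak.DataSepE7
import Cfsg.Agent.ChevWeak.DataStepE8
import Cfsg.Agent.ChevWeak.DataSepE8
import Cfsg.Prelude.Def_ChevG2
import Cfsg.Prelude.Def_ChevB2
import Cfsg.Prelude.Def_ChevD4
import Cfsg.Prelude.Def_ChevF4
import Cfsg.Prelude.Def_ChevE6
import Cfsg.Prelude.Def_ChevE7
import Cfsg.Prelude.Def_ChevE8

/-! Kernel evaluation of the step and separation checks on the seven sets of tables. -/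

set_option autoImplicit false

namespace CfsgLib.ChevWeak

open Cfsg.Lie

theorem chevG2_step : chkStep chevG2 = true := by decide +kernel
theorem chevB2_step : chkStep chevB2 = true := by decide +kernel
theorem chevD4_step : chkStep chevD4 = true := by decide +kernel
theorem chevF4_step : chkStep chevF4 = true := by decide +kernel

theorem chevG2_sep : chkSep chevG2 [1, 2] [(6, 10), (6, 11), (10, 11)] = true := by decide +kernel
theorem chevB2_sep : chkSep chevB2 [1, 2] [] = true := by decide +kernel
theorem chevD4_sep : chkSep chevD4 [1, 2] [] = true := by decide +kernel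
theorem chevF4_sep : chkSep chevF4 [1, 2] [] = true := by decide +kernel

theorem chevG2_exc : [(6, 10, 7), (6, 11, 7), (10, 11, 6)].all
    (fun e : ℕ × ℕ × ℕ => chkException chevG2 e.1 e.2.1 e.2.2) = true := by decide +kernel

end CfsgLib.ChevWeak
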