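import Cfsg.Agent.ChevWeak.Checks
import Cfsg.Agent.Chevalley.Borel
import Mathlib.FieldTheory.Finite.Basic

/-!
Subgroups of `U` normalised by `B`: when one of them contains an element with leading root `r`, it
contains the whole root subgroup of `r`.
-/

set_option autoImplicit false

namespace CfsgLib.ChevWeak

open Cfsg.Lie CfsgLib CfsgLib.Chevalley
open scoped MatrixGroups

variable {D : ChevalleyDatum} {F : Type*} [Field F]

/-- A subgroup of `U` normalised by `U` and by `H`. -/
structure BInv (D : ChevalleyDatum) (X₀ : Subgroup (GL D.Idx F)) : Prop where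
  le : X₀ ≤ D.posUnipotent F
  pos : ∀ u ∈ D.posUnipotent F, ∀ x ∈ X₀, u * x * u⁻¹ ∈ X₀
  diag : ∀ h ∈ D.diagonalSubgroup F, ∀ x ∈ X₀, h * x * h⁻¹ ∈ X₀

/-- The whole root subgroup of `r` lies in the subgroup. -/
def Full (hW : GoodWeyl D) (X₀ : Subgroup (GL D.Idx F)) (r : Root D) : Prop :=
  ∀ t : F, X hW.good r t ∈ X₀

/-- A leading root element gives the root subgroup. -/
def LeadAt (hW : GoodWeyl D) (X₀ : Subgroup (GL D.Idx F)) (r : Root D) : Prop :=
  ∀ t : F, t ≠ 0 → ∀ w ∈ uGe hW.good F false ((r : ℕ) + 1), X hW.good r t * w ∈ X₀ → Full hW X₀ r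

/-- The torus separates `s` from `r`. -/
def Separated (hW : GoodWeyl D) (F : Type*) [Field F] (r s : Root D) : Prop :=
  ∃ h ∈ D.diagonalSubgroup F, ∃ c : F, c ≠ 1 ∧
    (∀ a : F, h * X hW.good r a * h⁻¹ = X hW.good r a) ∧
    ∀ a : F, h * X hW.good s a * h⁻¹ = X hW.good s (c * a)

/-- An element led by `r` and supported from `s` on puts the root subgroup of `s` in. -/
def Rescued (hW : GoodWeyl D) (F : Type*) [Field F] (r s : Root D) : Prop :=
  ∀ X₀ : Subgroup (GL D.Idx F), BInv D X₀ → ∀ t : F, t ≠ 0 →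
    ∀ w ∈ uGe hW.good F false (s : ℕ), X hW.good r t * w ∈ X₀ →
      (∀ k : Root D, (r : ℕ) < k → LeadAt hW X₀ k) → Full hW X₀ s

theorem uGe_le_pos (hD : Good D) (m : ℕ) : uGe hD F false m ≤ D.posUnipotent F := by
  rw [posUnipotent_eq hD]
  rcases le_or_gt m (half D) with hm | hm
  · exact (uGe_half hD hm).le
  · exact uGe_mono hD hm.le

theorem diag_conj_uGe (hW : GoodWeyl D) {h : GL D.Idx F} (hh : h ∈ D.diagonalSubgroup F) (m : ℕ)
    {w : GL D.Idx F} (hw : w ∈ uGe hW.good F false m) : h * w * h⁻¹ ∈ uGe hW.good F false m := by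
  induction hw using Subgroup.closure_induction with
  | mem x hx =>
    obtain ⟨c, hc, hcm, t, rfl⟩ := hx
    obtain ⟨d, hd⟩ := (monBy_diag hW hh).conj_X c
    rw [hd]
    exact X_mem_uGe _ hc hcm _
  | one => simp
  | mul x y _ _ hx hy =>
    rw [show h * (x * y) * h⁻¹ = (h * x * h⁻¹) * (h * y * h⁻¹) by group]
    exact mul_mem hx hy
  | inv x _ hx =>
    rw [show h * x⁻¹ * h⁻¹ = (h * x * h⁻¹)⁻¹ by group]
    exact inv_mem hx

/-- A torus element squares the parameter of a given root. -/
theorem exists_diag_sq (hW : GoodWeyl D) (r : Root D) (c : Fˣ) :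
    ∃ h ∈ D.diagonalSubgroup F, ∀ a : F,
      h * X hW.good r a * h⁻¹ = X hW.good r ((c : F) * c * a) := by
  refine hW.root_induction (P := fun r => ∀ c : Fˣ, ∃ h ∈ D.diagonalSubgroup F, ∀ a : F,
    h * X hW.good r a * h⁻¹ = X hW.good r ((c : F) * c * a)) (fun i c => ?_) ?_ r c
  · refine ⟨hT F (pRoot hW i) c, hT_mem_diagonal hW _ _, fun a => ?_⟩
    rw [hT_pRoot_conj_X, show D.cartan i (pRoot hW i) = 2 from hW.good.cartan_simple_self i.isLt,
      zpow_ofNat, pow_two, Units.val_mul]
  · intro i s hs c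
    obtain ⟨h, hh, e⟩ := hs c
    refine ⟨nR hW i * h * (nR hW i)⁻¹, (Subgroup.mem_normalizer_iff.1
      (monomial_le_normalizer hW (nR_mem_monomial (F := F) hW i)) h).1 hh, fun a => ?_⟩
    have hη : (eta D i s : F) * eta D i s = 1 := by
      rw [← Int.cast_mul, hW.eta_sq, Int.cast_one]
    have e1 : ∀ b : F, X hW.good (wPerm hW i s) b =
        nR hW i * X hW.good s ((eta D i s : F) * b) * (nR hW i)⁻¹ := by
      intro b
      rw [nR_conj, ← mul_assoc, hη, one_mul]
    rw [e1, e1, ← mul_assoc (eta D i s : F) ((c : F) * c) a, mul_comm (eta D i s : F) ((c : F) * c),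
      mul_assoc ((c : F) * c) (eta D i s : F) a, ← e]
    group

variable {X₀ : Subgroup (GL D.Idx F)}

/-- One non-trivial element of a root subgroup gives all. -/
theorem full_of_mem [Finite F] (hW : GoodWeyl D) (hX : BInv D X₀) {r : Root D} {t : F} (ht : t ≠ 0)
    (hm : X hW.good r t ∈ X₀) : Full hW X₀ r := by
  have hadd : ∀ a b : F, X hW.good r a ∈ X₀ → X hW.good r b ∈ X₀ →
      X hW.good r (a + b) ∈ X₀ := fun a b ha hb => X_mul hW.good r a b ▸ mul_mem ha hb
  have hneg : ∀ a : F, X hW.good r a ∈ X₀ → X hW.good r (-a) ∈ X₀ := fun a ha =>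
    X_inv hW.good r a ▸ inv_mem ha
  have hsq : ∀ c : F, X hW.good r (c * c * t) ∈ X₀ := by
    intro c
    rcases eq_or_ne c 0 with rfl | hc
    · simp [X_zero]
    · obtain ⟨h, hh, e⟩ := exists_diag_sq (F := F) hW r (Units.mk0 c hc)
      have := hX.diag h hh _ hm
      rwa [e, Units.val_mk0] at this
  intro a
  by_cases h2 : (2 : F) = 0
  · have : CharP F 2 := CharTwo.of_one_ne_zero_of_two_eq_zero one_ne_zero h2
    obtain ⟨c, hc⟩ := FiniteField.isSquare_of_char_two (ringChar.eq F 2) (a / t)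
    have := hsq c
    rwa [← hc, div_mul_cancel₀ a ht] at this
  · set b : F := a / t / 2 with hb
    have := hadd _ _ (hsq (1 + b)) (hadd _ _ (hneg _ (hsq 1)) (hneg _ (hsq b)))
    rwa [show (1 + b) * (1 + b) * t + (-(1 * 1 * t) + -(b * b * t)) = a by
      rw [hb]; field_simp; ring] at this

theorem BInv.mem_conj_iff (hX : BInv D X₀) {u x : GL D.Idx F} (hu : u ∈ D.posUnipotent F) :
    u * x * u⁻¹ ∈ X₀ ↔ x ∈ X₀ := by
  refine ⟨fun h => ?_, hX.pos u hu x⟩
  have := hX.pos u⁻¹ (inv_mem hu) _ h
  rwa [show u⁻¹ * (u * x * u⁻¹) * u⁻¹⁻¹ = x by group] at this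

/-- The leading-root lemma. -/
theorem lead [Finite F] (hW : GoodWeyl D) (hX : BInv D X₀)
    (hsep : ∀ r s : Root D, half D ≤ r → (r : ℕ) < s → Separated hW F r s ∨ Rescued hW F r s)
    {r : Root D} (hr : half D ≤ r) : LeadAt hW X₀ r := by
  suffices H : ∀ n, ∀ r : Root D, half D ≤ r → D.nroots ≤ r + n → LeadAt hW X₀ r from
    H D.nroots r hr (Nat.le_add_left _ _)
  intro n
  induction n with
  | zero => intro r _ h; have := r.isLt; omega
  | succ n ihn =>
    intro r hr hrn
    have hlater : ∀ k : Root D, (r : ℕ) < k → LeadAt hW X₀ k := fun k hk =>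
      ihn k (by omega) (by omega)
    suffices H : ∀ e m, (r : ℕ) + 1 ≤ m → m + e = D.nroots → ∀ t : F, t ≠ 0 →
        ∀ w ∈ uGe hW.good F false m, X hW.good r t * w ∈ X₀ → Full hW X₀ r by
      intro t ht w hw hm
      exact H (D.nroots - (r + 1)) (r + 1) le_rfl (by have := r.isLt; omega) t ht w hw hm
    intro e
    induction e with
    | zero =>
      intro m _ hme t ht w hw hm
      rw [uGe_eq_bot _ (by omega), Subgroup.mem_bot] at hw
      rw [hw, mul_one] at hm
      exact full_of_mem hW hX ht hm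
    | succ e ih =>
      intro m hm hme t ht w hw hmem
      obtain ⟨f, rfl⟩ := exists_prodFrom hW.toGoodComm (e + 1) m (by omega) hme w hw
      rw [prodFrom_succ] at hmem hw
      set s := rootOf hW.good false m
      set w' := prodFrom hW.good false f (m + 1) e
      have hkey : (s : ℕ) = m := key_rootOf (b := false) hW.good (show m < D.nroots by omega)
      have hw' : w' ∈ uGe hW.good F false (m + 1) := prodFrom_mem hW.good f (by omega) (by omega)
      have hw'U := uGe_le_pos hW.good (m + 1) hw'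
      by_cases hf : f m = 0
      · rw [hf, X_zero, one_mul] at hmem
        exact ih (m + 1) (by omega) (by omega) t ht w' hw' hmem
      have hs : Full hW X₀ s := by
        rcases hsep r s hr (by omega) with ⟨h, hh, c, hc, hcr, hcs⟩ | hres
        · set w₂ := h * w' * h⁻¹
          have hw₂ : w₂ ∈ uGe hW.good F false (m + 1) := diag_conj_uGe hW hh _ hw'
          have h1 : X hW.good s ((c - 1) * f m) * (w₂ * w'⁻¹) ∈ X₀ := by
            have hy := mul_mem (inv_mem hmem) (hX.diag h hh _ hmem)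
            rw [← hX.mem_conj_iff (inv_mem hw'U)]
            convert hy using 1
            rw [show h * (X hW.good r t * (X hW.good s (f m) * w')) * h⁻¹ =
              (h * X hW.good r t * h⁻¹) * ((h * X hW.good s (f m) * h⁻¹) * w₂) by
                simp only [w₂]; group, hcr, hcs,
              show (c - 1) * f m = -f m + c * f m by ring, ← X_mul, ← X_inv]
            group
          exact hlater s (by omega) _ (mul_ne_zero (sub_ne_zero.2 hc) hf) _
            (hkey ▸ mul_mem hw₂ (inv_mem hw')) h1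
        · exact hres X₀ hX t ht _ (hkey ▸ hw) hmem hlater
      refine ih (m + 1) (by omega) (by omega) t ht w' hw' ?_
      have := mul_mem hmem (hX.pos w'⁻¹ (inv_mem hw'U) _ (inv_mem (hs (f m))))
      rwa [show X hW.good r t * (X hW.good s (f m) * w') *
        (w'⁻¹ * (X hW.good s (f m))⁻¹ * w'⁻¹⁻¹) = X hW.good r t * w' by group] at this

/-- Root elements at increasing indices: if the product is in, all these root subgroups are. -/
theorem full_of_word [Finite F] (hW : GoodWeyl D) (hX : BInv D X₀) {lo : ℕ} (hlo : half D ≤ lo)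
    (hlead : ∀ k : Root D, lo < k → LeadAt hW X₀ k) :
    ∀ L : List (ℕ × F), (L.map Prod.fst).Pairwise (· < ·) →
      (∀ p ∈ L, lo < p.1 ∧ p.1 < D.nroots ∧ p.2 ≠ 0) → wordGL hW.good L ∈ X₀ →
      ∀ k : Root D, (k : ℕ) ∈ L.map Prod.fst → Full hW X₀ k := by
  intro L
  induction L with
  | nil => simp
  | cons p L ih =>
    intro hpw hall hmem k hk
    obtain ⟨hp1, hp2, hp3⟩ := hall p (by simp)
    rw [List.map_cons, List.pairwise_cons] at hpw
    obtain ⟨q, a⟩ := p
    simp only at hp1 hp2 hp3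
    rw [show wordGL hW.good ((q, a) :: L) = X hW.good (⟨q, hp2⟩ : Root D) a * wordGL hW.good L from
      wordGL_cons hW.good (⟨q, hp2⟩ : Root D) a L] at hmem
    have hrest : wordGL hW.good L ∈ uGe hW.good F false (q + 1) := by
      refine Subgroup.list_prod_mem _ fun x hx => ?_
      obtain ⟨z, hz, rfl⟩ := List.mem_map.1 hx
      have h1 := hpw.1 z.1 (List.mem_map_of_mem hz)
      have h2 := hall z (by simp [hz])
      simp only [dif_pos h2.2.1]
      refine X_mem_uGe _ ?_ ?_ _
      · show half D ≤ z.1; omega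
      · show q + 1 ≤ z.1; omega
    have hq : Full hW X₀ ⟨q, hp2⟩ := hlead ⟨q, hp2⟩ hp1 a hp3 _ hrest hmem
    have hL : wordGL hW.good L ∈ X₀ := by
      have := mul_mem (inv_mem (hq a)) hmem
      rwa [inv_mul_cancel_left] at this
    simp only [List.map_cons, List.mem_cons] at hk
    rcases hk with hk | hk
    · rw [show k = ⟨q, hp2⟩ from Fin.ext hk]
      exact hq
    · exact ih hpw.2 (fun z hz => hall z (by simp [hz])) hL k hk

/-- The exceptional pairs are rescued in characteristic two. -/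
theorem rescued_of_chk [Finite F] [CharP F 2] (hW : GoodWeyl D) {r s : Root D} {p : ℕ}
    (hr : half D ≤ r) (hrs : (r : ℕ) < s) (hchk : chkException D r s p = true) :
    Rescued hW F r s := by
  simp only [chkException, Bool.and_eq_true, decide_eq_true_eq, bne_iff_ne, List.all_eq_true,
    List.any_eq_true, beq_iff_eq, List.isEmpty_iff, List.mem_range'_1] at hchk
  obtain ⟨⟨⟨⟨⟨⟨⟨hp1, hp2⟩, hne⟩, -⟩, hcomm⟩, hterms⟩, hpw⟩, z, hz, hzs⟩ := hchk
  intro X₀ hX t ht w hw hmem hlater
  set P := X hW.good (⟨p, hp2⟩ : Root D) (1 : F) with hP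
  have hPU : P ∈ D.posUnipotent F := X_mem_pos hW.good hp1 1
  have hwP : w * P = P * w := by
    clear hmem
    induction hw using Subgroup.closure_induction with
    | mem x hx =>
      obtain ⟨c, hc, hcs, a, rfl⟩ := hx
      obtain ⟨h1, h2⟩ := hcomm c ⟨hcs, by have := c.isLt; have : (c : ℕ) = key false c := rfl; omega⟩
      have := X_comm hW.toGoodComm (⟨p, hp2⟩ : Root D) c (fun e => h1 (congrArg Fin.val e))
        (fun e => by
          have := hW.good.two_half
          have hc' : half D ≤ (c : ℕ) := hc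
          rw [e, Fin.val_rev] at hc'
          simp only at hc'
          omega) (1 : F) a
      rw [commRhs, h2] at this
      simpa [wordGL] using this
    | one => simp
    | mul x y _ _ hx hy => exact Commute.mul_left hx hy
    | inv x _ hx => exact Commute.inv_left hx
  have hc := X_comm hW.toGoodComm (⟨p, hp2⟩ : Root D) r (fun e => hne (congrArg Fin.val e))
    (fun e => by
      have := hW.good.two_half
      rw [e, Fin.val_rev] at hr
      simp only at hr
      omega) (1 : F) t
  set Z := commRhs hW.good p r (1 : F) t with hZ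
  have hword : Z ∈ X₀ := by
    have hwU := uGe_le_pos hW.good _ hw
    have h1 := mul_mem (inv_mem hmem) (hX.pos P⁻¹ (inv_mem hPU) _ hmem)
    rw [← hX.mem_conj_iff (inv_mem hwU)]
    convert h1 using 1
    have hwP' : w = P⁻¹ * w * P := by rw [mul_assoc, hwP, inv_mul_cancel_left]
    have hc' : P⁻¹ * X hW.good r t * P = X hW.good r t * Z := by
      rw [mul_assoc, hP, hc]
      simp only [hP, hZ]
      group
    rw [inv_inv, inv_inv, show P⁻¹ * (X hW.good r t * w) * P =
      (P⁻¹ * X hW.good r t * P) * (P⁻¹ * w * P) by group, hc', ← hwP']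
    group
  refine full_of_word hW hX hr hlater _ ?_ ?_ hword s ?_
  · rw [List.map_map]
    exact hpw
  · rintro q hq
    obtain ⟨c, hc, rfl⟩ := List.mem_map.1 hq
    obtain ⟨⟨h1, h2⟩, h3⟩ := hterms c hc
    refine ⟨h1, h2, mul_ne_zero (mul_ne_zero ?_ (pow_ne_zero _ (by simp))) (pow_ne_zero _ ht)⟩
    intro h0
    exact h3 (Int.emod_eq_zero_of_dvd ((CharP.intCast_eq_zero_iff F 2 _).1 h0))
  · rw [List.map_map]
    exact List.mem_map.2 ⟨z, hz, hzs⟩

end CfsgLib.ChevWeak
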