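import Cfsg.Agent.ChevWeak.Lead
import Cfsg.Agent.Chevalley.Bruhat

/-!
Weakly closed subgroups of `U` are unipotent radicals of standard parabolic subgroups, given the
separation of the positive roots by the torus and a good step into each positive root.
-/

set_option autoImplicit false

namespace CfsgLib.ChevWeak

open Cfsg.Lie CfsgLib CfsgLib.Chevalley
open scoped MatrixGroups

variable {D : ChevalleyDatum} {F : Type*} [Field F]

/-- The roots are separated unless `q - 1` divides all their minors. -/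
theorem separated_or_dvd [Fintype F] (hW : GoodWeyl D) (r s : Root D) (hp : primOK D r = true) :
    Separated hW F r s ∨ (Fintype.card F - 1) ∣ sepGcd D r s := by
  classical
  set u := primCol D r with hu
  set cu : ℕ := (((wtTrie D).get r).map Int.natAbs).foldr Nat.gcd 0
  have hget : ∀ (q : Root D) (k : Fin D.rank), ((wtTrie D).get q).getD k 0 = D.cartan k q := by
    intro q k
    exact hW.good.cartanT_eq k.isLt q.isLt
  have hprim : ∀ k : Fin D.rank, (cu : ℤ) * u.getD k 0 = D.cartan k r := by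
    intro k
    simp only [primOK, List.all_eq_true, List.mem_range, beq_iff_eq] at hp
    rw [← hget r k]
    exact hp k k.isLt
  obtain ⟨ω, hω⟩ := IsCyclic.exists_generator (α := Fˣ)
  have hord : orderOf ω = Fintype.card F - 1 := by
    rw [orderOf_eq_card_of_forall_mem_zpowers hω, Nat.card_units, Nat.card_eq_fintype_card]
  by_cases hsep : ∃ k l : Fin D.rank,
      ω ^ (D.cartan k s * u.getD l 0 - D.cartan l s * u.getD k 0) ≠ 1
  · left
    obtain ⟨k, l, hkl⟩ := hsep
    set h₁ := hT F (pRoot hW k) (ω ^ u.getD l 0)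
    set h₂ := hT F (pRoot hW l) (ω ^ (-(u.getD k 0)))
    have key : ∀ (q : Root D) (a : F), h₁ * h₂ * X hW.good q a * (h₁ * h₂)⁻¹ =
        X hW.good q (((ω ^ (D.cartan k q * u.getD l 0 - D.cartan l q * u.getD k 0) : Fˣ) : F) * a) := by
      intro q a
      rw [show h₁ * h₂ * X hW.good q a * (h₁ * h₂)⁻¹ =
        h₁ * (h₂ * X hW.good q a * h₂⁻¹) * h₁⁻¹ by group, hT_pRoot_conj_X, hT_pRoot_conj_X,
        ← mul_assoc, ← Units.val_mul, ← zpow_mul, ← zpow_mul, ← zpow_add]
      congr 3
      ring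
    refine ⟨h₁ * h₂, mul_mem (hT_mem_diagonal hW _ _) (hT_mem_diagonal hW _ _), _,
      fun e => hkl (Units.ext e), fun a => ?_, key s⟩
    rw [key, ← hprim k, ← hprim l,
      show (cu : ℤ) * u.getD k 0 * u.getD l 0 - (cu : ℤ) * u.getD l 0 * u.getD k 0 = 0 by ring,
      zpow_zero, Units.val_one, one_mul]
  · right
    push Not at hsep
    have hdvd : ∀ k l : Fin D.rank, Fintype.card F - 1 ∣
        (D.cartan k s * u.getD l 0 - D.cartan l s * u.getD k 0).natAbs := by
      intro k l
      rw [← Int.natCast_dvd, ← hord]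
      exact orderOf_dvd_iff_zpow_eq_one.2 (hsep k l)
    have hfold : ∀ (n : ℕ) (L : List ℕ), (∀ a ∈ L, n ∣ a) → n ∣ L.foldr Nat.gcd 0 := by
      intro n L
      induction L with
      | nil => simp
      | cons a L ih =>
        intro h
        rw [List.foldr_cons]
        exact Nat.dvd_gcd (h a (by simp)) (ih fun b hb => h b (by simp [hb]))
    simp only [sepGcd]
    refine hfold _ _ fun a ha => ?_
    simp only [List.mem_flatMap, List.mem_map, List.mem_range] at ha
    obtain ⟨k, hk, l, hl, rfl⟩ := ha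
    rw [hget s ⟨k, hk⟩, hget s ⟨l, hl⟩]
    exact hdvd ⟨k, hk⟩ ⟨l, hl⟩

/-- A weakly closed subgroup of `U` is normalised by `B`. -/
theorem binv_of_weaklyClosed (hW : GoodWeyl D) {X₀ : Subgroup (GL D.Idx F)}
    (hXU : X₀ ≤ D.posUnipotent F)
    (hwc : ∀ g ∈ D.group F, X₀.map (MulAut.conj g).toMonoidHom ≤ D.posUnipotent F →
      X₀.map (MulAut.conj g).toMonoidHom = X₀) : BInv D X₀ := by
  have key : ∀ g ∈ D.group F, (∀ x ∈ D.posUnipotent F, g * x * g⁻¹ ∈ D.posUnipotent F) →
      ∀ x ∈ X₀, g * x * g⁻¹ ∈ X₀ := by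
    intro g hg hU x hx
    have h := hwc g hg (by rintro _ ⟨y, hy, rfl⟩; exact hU y (hXU hy))
    have := Subgroup.mem_map_of_mem (MulAut.conj g).toMonoidHom hx
    rw [h] at this
    exact this
  refine ⟨hXU, fun u hu => key u ((pos_le_borel D).trans (borel_le_group hW) hu)
    fun x hx => mul_mem (mul_mem hu hx) (inv_mem hu), fun h hh => key h (diag_le_group hW hh)
    fun x hx => (Subgroup.mem_normalizer_iff.1 (diag_le_normalizer_pos hW hh) x).1 hx⟩

variable {X₀ : Subgroup (GL D.Idx F)}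

/-- Either the root subgroup of `α_i` is in, or `n_i` normalises. -/
theorem simple_full_or [Finite F] (hW : GoodWeyl D) (hX : BInv D X₀)
    (hlead : ∀ r : Root D, half D ≤ r → LeadAt hW X₀ r)
    (hwc : ∀ g ∈ D.group F, X₀.map (MulAut.conj g).toMonoidHom ≤ D.posUnipotent F →
      X₀.map (MulAut.conj g).toMonoidHom = X₀) (i : Fin D.rank)
    (hnf : ¬ Full hW X₀ (pRoot hW i)) : ∀ x ∈ X₀, nR hW i * x * (nR hW i)⁻¹ ∈ X₀ := by
  have hin : X₀ ≤ rootGen hW.good F (posCompl hW i) := by
    suffices H : ∀ e m, half D ≤ m → m + e = D.nroots → ∀ x ∈ uGe hW.good F false m, x ∈ X₀ →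
        x ∈ rootGen hW.good F (posCompl hW i) by
      intro x hx
      have := hW.good.two_half
      exact H (half D) (half D) le_rfl (by omega) x (posUnipotent_eq (F := F) hW.good ▸ hX.le hx) hx
    intro e
    induction e with
    | zero =>
      intro m _ hme x hx _
      rw [uGe_eq_bot _ (by omega), Subgroup.mem_bot] at hx
      exact hx ▸ one_mem _
    | succ e ih =>
      intro m hm hme x hx hxX
      obtain ⟨f, rfl⟩ := exists_prodFrom hW.toGoodComm (e + 1) m hm hme x hx
      rw [prodFrom_succ] at hxX ⊢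
      set r := rootOf hW.good false m
      set w := prodFrom hW.good false f (m + 1) e
      have hkey : (r : ℕ) = m := key_rootOf (b := false) hW.good (show m < D.nroots by omega)
      have hw : w ∈ uGe hW.good F false (m + 1) := prodFrom_mem hW.good f (by omega) (by omega)
      have hr : half D ≤ r := hkey.symm ▸ hm
      by_cases hf : f m = 0
      · rw [hf, X_zero, one_mul] at hxX ⊢
        exact ih (m + 1) (by omega) (by omega) w hw hxX
      have hfull : Full hW X₀ r := hlead r hr (f m) hf w (hkey.symm ▸ hw) hxX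
      have hne : r ≠ pRoot hW i := fun e => hnf (e ▸ hfull)
      refine mul_mem (X_mem_rootGen _ (S := posCompl hW i)
        (show half D ≤ (r : ℕ) ∧ r ≠ pRoot hW i from ⟨hr, hne⟩) _) (ih (m + 1) (by omega) (by omega) w hw ?_)
      have := mul_mem (inv_mem (hfull (f m))) hxX
      rwa [inv_mul_cancel_left] at this
  intro x hx
  have h := hwc (nR hW i) (nR_mem_group hW i) (by
    rintro _ ⟨y, hy, rfl⟩
    exact rootGen_posCompl_le hW i (nR_conj_posCompl hW i (hin hy)))
  have := Subgroup.mem_map_of_mem (MulAut.conj (nR hW i : GL D.Idx F)).toMonoidHom hx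
  rw [h] at this
  exact this

theorem full_wPerm [Finite F] (hW : GoodWeyl D) (hX : BInv D X₀) {i : Fin D.rank}
    (hn : ∀ x ∈ X₀, nR hW i * x * (nR hW i)⁻¹ ∈ X₀) {r : Root D} (hr : Full hW X₀ r) :
    Full hW X₀ (wPerm hW i r) := by
  have := hn _ (hr 1)
  rw [nR_conj, mul_one] at this
  refine full_of_mem hW hX (fun h0 => ?_) this
  have h := congrArg (Int.cast : ℤ → F) (hW.eta_sq i r)
  simp [h0] at h

/-- A product of root elements, modulo the subgroup and the higher roots. -/
theorem exists_mod_word (hW : GoodWeyl D) (hX : BInv D X₀) (r : Root D) (hr : half D ≤ r) :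
    ∀ L : List (ℕ × F),
      (∀ p ∈ L, half D ≤ p.1 ∧ ∃ h : p.1 < D.nroots, p.1 < r → Full hW X₀ ⟨p.1, h⟩) →
      ∃ x ∈ X₀, ∃ w ∈ uGe hW.good F false ((r : ℕ) + 1), wordGL hW.good L =
        x * (X hW.good r (((L.filter fun p => p.1 == (r : ℕ)).map Prod.snd).sum) * w) := by
  intro L
  induction L with
  | nil => intro _; exact ⟨1, one_mem _, 1, one_mem _, by simp [wordGL, X_zero]⟩
  | cons p L ih =>
    intro hall
    obtain ⟨q, a⟩ := p
    obtain ⟨hq1, hq2, hq3⟩ := hall (q, a) (by simp)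
    obtain ⟨x, hx, w, hw, e⟩ := ih fun z hz => hall z (by simp [hz])
    set c := ((L.filter fun p => p.1 == (r : ℕ)).map Prod.snd).sum
    have hqU : X hW.good (⟨q, hq2⟩ : Root D) a ∈ D.posUnipotent F := X_mem_pos hW.good hq1 a
    rw [show wordGL hW.good ((q, a) :: L) = X hW.good (⟨q, hq2⟩ : Root D) a * wordGL hW.good L from
      wordGL_cons hW.good (⟨q, hq2⟩ : Root D) a L, e]
    set Q := X hW.good (⟨q, hq2⟩ : Root D) a
    rcases lt_trichotomy q (r : ℕ) with hlt | heq | hgt
    · refine ⟨Q * x, mul_mem (hq3 hlt a) hx, w, hw, ?_⟩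
      rw [List.filter_cons, if_neg (by simp [hlt.ne]), mul_assoc]
    · refine ⟨Q * x * Q⁻¹, hX.pos _ hqU _ hx, w, hw, ?_⟩
      rw [List.filter_cons, if_pos (by simp [heq]), List.map_cons, List.sum_cons, ← X_mul]
      have : (⟨q, hq2⟩ : Root D) = r := Fin.ext heq
      simp only [Q, this]
      group
      rfl
    · have hQm : Q ∈ uGe hW.good F false ((r : ℕ) + 1) :=
        X_mem_uGe _ (show half D ≤ q from hq1) (show (r : ℕ) + 1 ≤ q by omega) a
      refine ⟨Q * x * Q⁻¹, hX.pos _ hqU _ hx,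
        (X hW.good r (-c) * Q * (X hW.good r (-c))⁻¹) * w,
        mul_mem (conj_mem_uGe hW.toGoodComm (b := false) hr _ _ hQm) hw, ?_⟩
      rw [List.filter_cons, if_neg (by simp [hgt.ne']), ← X_inv]
      change Q * (x * (X hW.good r c * w)) =
        Q * x * Q⁻¹ * (X hW.good r c * ((X hW.good r c)⁻¹ * Q * ((X hW.good r c)⁻¹)⁻¹ * w))
      group

/-- The commutator step. -/
theorem full_of_comm [Finite F] (hW : GoodWeyl D) (hX : BInv D X₀)
    (hlead : ∀ r : Root D, half D ≤ r → LeadAt hW X₀ r) {i : Fin D.rank}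
    (hi : Full hW X₀ (pRoot hW i)) {r : Root D} (hr : half D ≤ r) {q : ℕ}
    (hq : half D ≤ q) (hqn : q < D.nroots) (hok : commOK D r i q = true)
    (hlow : ∀ k : Root D, half D ≤ k → (k : ℕ) < r → coT D k i ≠ 0 → Full hW X₀ k) :
    Full hW X₀ r := by
  simp only [commOK, Bool.and_eq_true, bne_iff_ne, beq_iff_eq, List.all_eq_true,
    decide_eq_true_eq] at hok
  obtain ⟨⟨hne, hone⟩, hterms⟩ := hok
  set p := pRoot hW i
  have hp : (p : ℕ) = D.simple i := rfl
  set Q : Root D := ⟨q, hqn⟩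
  have hc := X_comm hW.toGoodComm p Q (fun e => hne (by rw [← hp, ← e]))
    (fun e => by
      have h1 := pRoot_rev_neg hW i
      rw [← e] at h1
      simp only [Q] at h1
      omega) (1 : F) (1 : F)
  set Z := commRhs hW.good (p : ℕ) (Q : ℕ) (1 : F) (1 : F) with hZdef
  have hZ : Z ∈ X₀ := by
    have h1 := mul_mem (hX.pos _ (inv_mem (X_mem_pos hW.good (r := Q) hq (1 : F))) _
      (inv_mem (hi 1))) (hi 1)
    convert h1 using 1
    calc Z = (X hW.good Q (1 : F))⁻¹ * (X hW.good p (1 : F))⁻¹ *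
          (X hW.good p (1 : F) * X hW.good Q (1 : F) * Z) := by group
      _ = _ := by rw [← hc]; group
  obtain ⟨x, hx, w, hw, e⟩ := exists_mod_word hW hX r hr
    ((D.commTerms p Q).map fun c =>
      (c.1, (c.2.1 : F) * (-(1 : F)) ^ c.2.2.1 * (1 : F) ^ c.2.2.2)) (by
      intro z hz
      obtain ⟨c, hc', rfl⟩ := List.mem_map.1 hz
      obtain ⟨⟨h1, h2⟩, h3⟩ := hterms c hc'
      exact ⟨h1, h2, fun hlt => hlow ⟨c.1, h2⟩ h1 hlt h3⟩)
  have hmem : X hW.good r ((((D.commTerms p Q).map fun c =>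
      (c.1, (c.2.1 : F) * (-(1 : F)) ^ c.2.2.1 * (1 : F) ^ c.2.2.2)).filter
        fun p => p.1 == (r : ℕ)).map Prod.snd).sum * w ∈ X₀ := by
    have := mul_mem (inv_mem hx) hZ
    rwa [show Z = x * _ from e, inv_mul_cancel_left] at this
  refine hlead r hr _ ?_ w hw hmem
  rw [List.filter_map, List.map_map]
  obtain ⟨c, hc'⟩ : ∃ c, ((D.commTerms p Q).filter
      ((fun p : ℕ × F => p.1 == (r : ℕ)) ∘ fun c =>
        (c.1, (c.2.1 : F) * (-(1 : F)) ^ c.2.2.1 * (1 : F) ^ c.2.2.2))) = [c] ∧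
      c.2.1.natAbs = 1 := by
    change ((D.commTerms p Q).filter fun c => c.1 == (r : ℕ)).map _ = _ at hone
    obtain ⟨c, hc1, hc2⟩ := List.map_eq_singleton_iff.1 hone
    exact ⟨c, hc1, hc2⟩
  rw [hc'.1]
  simp only [List.map_cons, List.map_nil, List.sum_cons, List.sum_nil, add_zero, Function.comp_apply,
    one_pow, mul_one]
  refine mul_ne_zero ?_ (pow_ne_zero _ (neg_ne_zero.2 one_ne_zero))
  rcases Int.natAbs_eq_iff.1 hc'.2 with h | h <;> simp [h]

/-- The theorem. -/
theorem eq_unipotentRadical [Finite F] (hW : GoodWeyl D) (hstep : chkStep D = true)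
    (hsep : ∀ r s : Root D, half D ≤ r → (r : ℕ) < s → Separated hW F r s ∨ Rescued hW F r s)
    (hXU : X₀ ≤ D.posUnipotent F)
    (hwc : ∀ g ∈ D.group F, X₀.map (MulAut.conj g).toMonoidHom ≤ D.posUnipotent F →
      X₀.map (MulAut.conj g).toMonoidHom = X₀) :
    ∃ J : Set ℕ, (∀ j ∈ J, j < D.rank) ∧ X₀ = D.unipotentRadical F J := by
  classical
  have hX := binv_of_weaklyClosed hW hXU hwc
  have hlead : ∀ r : Root D, half D ≤ r → LeadAt hW X₀ r := fun r hr => lead hW hX hsep hr
  set J : Set ℕ := {j | ∃ h : j < D.rank, ¬ Full hW X₀ (pRoot hW ⟨j, h⟩)}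
  have hJfull : ∀ i : Fin D.rank, (i : ℕ) ∉ J → Full hW X₀ (pRoot hW i) := fun i hi => by
    by_contra h; exact hi ⟨i.isLt, h⟩
  have hJn : ∀ i : Fin D.rank, (i : ℕ) ∈ J → ∀ x ∈ X₀, nR hW i * x * (nR hW i)⁻¹ ∈ X₀ :=
    fun i hi => simple_full_or hW hX hlead hwc i hi.2
  simp only [chkStep, List.all_eq_true, Bool.or_eq_true, List.any_eq_true, List.mem_range,
    List.mem_range'_1, beq_iff_eq] at hstep
  have step : ∀ r : Root D, half D ≤ r → (∃ i : Fin D.rank, pRoot hW i = r) ∨
      ∃ i : Fin D.rank, half D ≤ (wPerm hW i r : ℕ) ∧ (wPerm hW i r : ℕ) < r ∧ coT D r i ≠ 0 ∧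
        (∀ k < D.rank, k ≠ (i : ℕ) → coT D (wPerm hW i r) k = coT D r k) ∧
        ∃ q, half D ≤ q ∧ q < D.nroots ∧ commOK D r i q = true := by
    intro r hr
    have := hW.good.two_half
    have := r.isLt
    rcases hstep r ⟨hr, by omega⟩ with ⟨i, hi, e⟩ | ⟨i, hi, e⟩
    · exact Or.inl ⟨⟨i, hi⟩, Fin.ext e⟩
    · simp only [stepOK, Bool.and_eq_true, decide_eq_true_eq, bne_iff_ne, List.all_eq_true,
        List.mem_range, Bool.or_eq_true, beq_iff_eq, List.any_eq_true, List.mem_range'_1] at e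
      obtain ⟨⟨⟨⟨h1, h2⟩, h3⟩, h4⟩, h5⟩ := e
      refine Or.inr ⟨⟨i, hi⟩, h1, h2, h3, fun k hk hki => (h4 k hk).resolve_left hki, ?_⟩
      rcases h5 with h5 | ⟨q, ⟨hq1, hq2⟩, h5⟩
      · exact ⟨_, h1, (wPerm hW ⟨i, hi⟩ r).isLt, h5⟩
      · exact ⟨q, hq1, by omega, h5⟩
  have outside : ∀ n, ∀ r : Root D, (r : ℕ) ≤ n → half D ≤ r →
      (∃ k < D.rank, k ∉ J ∧ coT D r k ≠ 0) → Full hW X₀ r := by
    intro n
    induction n using Nat.strong_induction_on with
    | _ n ih =>
      intro r hrn hr hout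
      obtain ⟨k, hk, hkJ, hk0⟩ := hout
      rcases step r hr with ⟨i, rfl⟩ | ⟨i, h1, h2, h3, h4, q, hq1, hq2, hq3⟩
      · refine hJfull i ?_
        have : (i : ℕ) = k := by
          by_contra hne
          apply hk0
          have := hW.good.coroot_genR false i ⟨k, hk⟩
          rw [if_neg (fun e => hne (congrArg Fin.val e))] at this
          rw [coT_eq]
          exact this
        exact this ▸ hkJ
      · by_cases hi : (i : ℕ) ∈ J
        · have hki : k ≠ i := fun e => hkJ (e ▸ hi)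
          have := full_wPerm hW hX (hJn i hi) (ih (wPerm hW i r : ℕ) (by omega) _ le_rfl h1
            ⟨k, hk, hkJ, by rwa [h4 k hk hki]⟩)
          rwa [hW.wPerm_wPerm] at this
        · exact full_of_comm hW hX hlead (hJfull i hi) hr hq1 hq2 hq3
            fun c hc hlt hc0 => ih (c : ℕ) (by omega) c le_rfl hc ⟨i, i.isLt, hi, hc0⟩
  have inside : ∀ n, ∀ r : Root D, (r : ℕ) ≤ n → half D ≤ r →
      (∀ k < D.rank, k ∉ J → coT D r k = 0) → ¬ Full hW X₀ r := by
    intro n
    induction n using Nat.strong_induction_on with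
    | _ n ih =>
      intro r hrn hr hin hfull
      rcases step r hr with ⟨i, rfl⟩ | ⟨i, h1, h2, h3, h4, -⟩
      · have hiJ : (i : ℕ) ∈ J := by
          by_contra hiJ
          have := hin i i.isLt hiJ
          rw [coT_eq, show ((pRoot hW i : Root D) : ℕ) = (genR hW.good false i : ℕ) from rfl,
            hW.good.coroot_genR false i i, if_pos rfl] at this
          simp [sgn] at this
        exact hiJ.2 hfull
      · have hiJ : (i : ℕ) ∈ J := by
          by_contra hiJ
          exact h3 (hin i i.isLt hiJ)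
        refine ih (wPerm hW i r : ℕ) (by omega) _ le_rfl h1 (fun k hk hkJ => ?_)
          (full_wPerm hW hX (hJn i hiJ) hfull)
        rw [h4 k hk fun e => hkJ (e ▸ hiJ)]
        exact hin k hk hkJ
  refine ⟨J, fun j hj => hj.1, ?_⟩
  have hgen : ∀ r : Root D, half D ≤ r → ∀ k < D.rank, k ∉ J → coT D r k ≠ 0 →
      ∀ t, X hW.good r t ∈ D.unipotentRadical F J := by
    intro r hr k hk hkJ hk0 t
    refine Subgroup.subset_closure ⟨r, t, hW.good.isPosRoot_iff.2 ⟨hr, r.isLt⟩, ?_,
      (coe_eq_x_iff hW.good r.isLt).2 rfl⟩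
    rintro ⟨-, hsub⟩
    exact hk0 ((coT_eq (D := D) r k).trans (hsub k hk hkJ))
  apply le_antisymm
  · suffices H : ∀ e m, half D ≤ m → m + e = D.nroots → ∀ x ∈ uGe hW.good F false m, x ∈ X₀ →
        x ∈ D.unipotentRadical F J by
      intro x hx
      have := hW.good.two_half
      exact H (half D) (half D) le_rfl (by omega) x (posUnipotent_eq (F := F) hW.good ▸ hXU hx) hx
    intro e
    induction e with
    | zero =>
      intro m _ hme x hx _
      rw [uGe_eq_bot _ (by omega), Subgroup.mem_bot] at hx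
      exact hx ▸ one_mem _
    | succ e ih =>
      intro m hm hme x hx hxX
      obtain ⟨f, rfl⟩ := exists_prodFrom hW.toGoodComm (e + 1) m hm hme x hx
      rw [prodFrom_succ] at hxX ⊢
      set r := rootOf hW.good false m
      set w := prodFrom hW.good false f (m + 1) e
      have hkey : (r : ℕ) = m := key_rootOf (b := false) hW.good (show m < D.nroots by omega)
      have hw : w ∈ uGe hW.good F false (m + 1) := prodFrom_mem hW.good f (by omega) (by omega)
      have hr : half D ≤ r := hkey.symm ▸ hm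
      by_cases hf : f m = 0
      · rw [hf, X_zero, one_mul] at hxX ⊢
        exact ih (m + 1) (by omega) (by omega) w hw hxX
      have hfull : Full hW X₀ r := hlead r hr (f m) hf w (hkey.symm ▸ hw) hxX
      obtain ⟨k, hk, hkJ, hk0⟩ : ∃ k < D.rank, k ∉ J ∧ coT D r k ≠ 0 := by
        by_contra! h
        exact inside _ r le_rfl hr h hfull
      refine mul_mem (hgen r hr k hk hkJ hk0 _) (ih (m + 1) (by omega) (by omega) w hw ?_)
      have := mul_mem (inv_mem (hfull (f m))) hxX
      rwa [inv_mul_cancel_left] at this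
  · rw [ChevalleyDatum.unipotentRadical, Subgroup.closure_le]
    rintro g ⟨r, t, hpos, hout, hg⟩
    obtain ⟨hr, hrn⟩ := hW.good.isPosRoot_iff.1 hpos
    rw [(coe_eq_x_iff hW.good hrn).1 hg]
    refine outside _ ⟨r, hrn⟩ le_rfl hr ?_ t
    by_contra! h
    exact hout ⟨hrn, fun k hk hkJ => (coT_eq (D := D) r k).symm.trans (h k hk hkJ)⟩

end CfsgLib.ChevWeak
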