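import Cfsg.Agent.ChevWeak.Checks

/-! The separation check, cut into ranges of the first root. -/

set_option autoImplicit false

namespace CfsgLib.ChevWeak

open Cfsg.Lie CfsgLib.Chevalley

variable (D : ChevalleyDatum)

/-- The separation check for the pairs whose first member lies in a range. -/
def sepPart (ok : List ℕ) (exc : List (ℕ × ℕ)) (a n : ℕ) : Bool :=
  (List.range' a n).all fun r => primOK D r &&
    (List.range' (r + 1) (D.nroots - (r + 1))).all fun s =>
      ok.elem (sepGcd D r s) || exc.elem (r, s)

variable {D}

theorem sepPart_append {ok : List ℕ} {exc : List (ℕ × ℕ)} {a m n : ℕ}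
    (h1 : sepPart D ok exc a m = true) (h2 : sepPart D ok exc (a + m) n = true) :
    sepPart D ok exc a (m + n) = true := by
  unfold sepPart at h1 h2 ⊢
  rw [← List.range'_append_1, List.all_append, Bool.and_eq_true]
  exact ⟨h1, h2⟩

theorem chkSep_of_part {ok : List ℕ} {exc : List (ℕ × ℕ)} {a n : ℕ} (ha : half D = a)
    (hn : D.nroots - half D = n) (h : sepPart D ok exc a n = true) : chkSep D ok exc = true := by
  subst ha hn
  exact h

end CfsgLib.ChevWeak
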